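import Mathlib
import Cfsg.Agent.Helper9.LeechAct.Bridge
import Cfsg.Agent.Helper9.McLO.Data

set_option autoImplicit false
set_option maxRecDepth 100000

/-! Data of the bridge from the lattice to the tables for the group `mcl`. -/

noncomputable section

namespace Cfsg.Agent.Helper9.McLO

open Cfsg.Agent.Helper9.OutG Cfsg.Agent.Helper9.LeechAct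

/-- the words of the letters in automorphisms of the lattice. -/
def dBrLws : List (List LLet) :=
  [[{ isXi := false, t := [14, 10, 12, 7, 6, 4, 19, 3, 11, 0, 8, 22, 20, 9, 5, 1, 18, 23, 13, 16, 15, 2, 21, 17], t' := [9, 15, 21, 7, 5, 14, 4, 3, 10, 13, 1, 8, 2, 18, 0, 20, 19, 23, 16, 6, 12, 22, 11, 17], m := 0x151dd5 },
    { isXi := true, t := [], t' := [], m := 0 },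
    { isXi := false, t := [5, 3, 17, 9, 2, 20, 18, 22, 4, 13, 8, 1, 19, 16, 10, 0, 11, 14, 12, 7, 21, 23, 6, 15], t' := [15, 11, 4, 1, 8, 0, 22, 19, 10, 3, 14, 16, 18, 9, 17, 23, 13, 2, 6, 12, 5, 20, 7, 21], m := 0x299af8 },
    { isXi := true, t := [], t' := [], m := 0 },
    { isXi := false, t := [17, 9, 13, 21, 1, 19, 0, 20, 7, 4, 15, 18, 12, 14, 8, 5, 10, 6, 11, 22, 2, 3, 16, 23], t' := [6, 4, 20, 21, 9, 15, 17, 8, 14, 1, 16, 18, 12, 2, 13, 10, 22, 0, 11, 5, 7, 3, 19, 23], m := 0x6fdd00 }],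
   [{ isXi := false, t := [6, 4, 20, 21, 9, 15, 17, 8, 14, 1, 16, 18, 12, 2, 13, 10, 22, 0, 11, 5, 7, 3, 19, 23], t' := [17, 9, 13, 21, 1, 19, 0, 20, 7, 4, 15, 18, 12, 14, 8, 5, 10, 6, 11, 22, 2, 3, 16, 23], m := 0x4d7c29 },
    { isXi := true, t := [], t' := [], m := 0 },
    { isXi := false, t := [15, 11, 4, 1, 8, 0, 22, 19, 10, 3, 14, 16, 18, 9, 17, 23, 13, 2, 6, 12, 5, 20, 7, 21], t' := [5, 3, 17, 9, 2, 20, 18, 22, 4, 13, 8, 1, 19, 16, 10, 0, 11, 14, 12, 7, 21, 23, 6, 15], m := 0xdd310b },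
    { isXi := true, t := [], t' := [], m := 0 },
    { isXi := false, t := [9, 15, 21, 7, 5, 14, 4, 3, 10, 13, 1, 8, 2, 18, 0, 20, 19, 23, 16, 6, 12, 22, 11, 17], t' := [14, 10, 12, 7, 6, 4, 19, 3, 11, 0, 8, 22, 20, 9, 5, 1, 18, 23, 13, 16, 15, 2, 21, 17], m := 0x29173e }],
   [{ isXi := false, t := [13, 1, 5, 23, 0, 2, 16, 11, 14, 15, 9, 3, 21, 17, 18, 19, 4, 7, 12, 6, 8, 22, 20, 10], t' := [4, 1, 5, 11, 16, 2, 19, 17, 20, 10, 23, 7, 18, 0, 8, 9, 6, 13, 14, 15, 22, 12, 21, 3], m := 0xfa4166 },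
    { isXi := true, t := [], t' := [], m := 0 },
    { isXi := false, t := [3, 17, 14, 5, 7, 22, 23, 19, 20, 1, 6, 0, 21, 8, 16, 10, 15, 13, 12, 9, 11, 18, 2, 4], t' := [11, 9, 22, 0, 23, 3, 10, 4, 13, 19, 15, 20, 18, 17, 2, 16, 14, 1, 21, 7, 8, 12, 5, 6], m := 0xfd175d },
    { isXi := true, t := [], t' := [], m := 0 },
    { isXi := false, t := [17, 9, 13, 21, 1, 19, 0, 20, 7, 4, 15, 18, 12, 14, 8, 5, 10, 6, 11, 22, 2, 3, 16, 23], t' := [6, 4, 20, 21, 9, 15, 17, 8, 14, 1, 16, 18, 12, 2, 13, 10, 22, 0, 11, 5, 7, 3, 19, 23], m := 0x6fdd00 }],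
   [{ isXi := false, t := [6, 4, 20, 21, 9, 15, 17, 8, 14, 1, 16, 18, 12, 2, 13, 10, 22, 0, 11, 5, 7, 3, 19, 23], t' := [17, 9, 13, 21, 1, 19, 0, 20, 7, 4, 15, 18, 12, 14, 8, 5, 10, 6, 11, 22, 2, 3, 16, 23], m := 0x4d7c29 },
    { isXi := true, t := [], t' := [], m := 0 },
    { isXi := false, t := [11, 9, 22, 0, 23, 3, 10, 4, 13, 19, 15, 20, 18, 17, 2, 16, 14, 1, 21, 7, 8, 12, 5, 6], t' := [3, 17, 14, 5, 7, 22, 23, 19, 20, 1, 6, 0, 21, 8, 16, 10, 15, 13, 12, 9, 11, 18, 2, 4], m := 0xecfde1 },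
    { isXi := true, t := [], t' := [], m := 0 },
    { isXi := false, t := [4, 1, 5, 11, 16, 2, 19, 17, 20, 10, 23, 7, 18, 0, 8, 9, 6, 13, 14, 15, 22, 12, 21, 3], t' := [13, 1, 5, 23, 0, 2, 16, 11, 14, 15, 9, 3, 21, 17, 18, 19, 4, 7, 12, 6, 8, 22, 20, 10], m := 0x78b12e }]]

/-- the lists of coordinates of the points, shifted by 8. -/
def dBrPtsN : List (List ℕ) :=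
  [[8, 8, 8, 8, 8, 8, 8, 8, 8, 8, 8, 8, 8, 8, 8, 8, 8, 8, 8, 8, 8, 8, 12, 12],
   [8, 8, 8, 8, 8, 8, 8, 8, 8, 8, 8, 8, 8, 8, 8, 8, 8, 8, 8, 8, 8, 12, 8, 12],
   [8, 8, 8, 8, 8, 8, 8, 8, 8, 8, 8, 8, 8, 8, 8, 8, 8, 8, 8, 8, 12, 8, 8, 12],
   [8, 8, 8, 8, 8, 8, 8, 8, 8, 8, 8, 8, 8, 8, 8, 8, 8, 8, 8, 12, 8, 8, 8, 12],
   [8, 8, 8, 8, 8, 8, 8, 8, 8, 8, 8, 8, 8, 8, 8, 8, 8, 8, 12, 8, 8, 8, 8, 12],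
   [8, 8, 8, 8, 8, 8, 8, 8, 8, 8, 8, 8, 8, 8, 8, 8, 8, 12, 8, 8, 8, 8, 8, 12],
   [8, 8, 8, 8, 8, 8, 8, 8, 8, 8, 8, 8, 8, 8, 8, 8, 12, 8, 8, 8, 8, 8, 8, 12],
   [8, 8, 8, 8, 8, 8, 8, 8, 8, 8, 8, 8, 8, 8, 8, 12, 8, 8, 8, 8, 8, 8, 8, 12],
   [8, 8, 8, 8, 8, 8, 8, 8, 8, 8, 8, 8, 8, 8, 12, 8, 8, 8, 8, 8, 8, 8, 8, 12],
   [8, 8, 8, 8, 8, 8, 8, 8, 8, 8, 8, 8, 8, 12, 8, 8, 8, 8, 8, 8, 8, 8, 8, 12],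
   [8, 8, 8, 8, 8, 8, 8, 8, 8, 8, 8, 8, 12, 8, 8, 8, 8, 8, 8, 8, 8, 8, 8, 12],
   [8, 8, 8, 8, 8, 8, 8, 8, 8, 8, 8, 12, 8, 8, 8, 8, 8, 8, 8, 8, 8, 8, 8, 12],
   [8, 8, 8, 8, 8, 8, 8, 8, 8, 8, 12, 8, 8, 8, 8, 8, 8, 8, 8, 8, 8, 8, 8, 12],
   [8, 8, 8, 8, 8, 8, 8, 8, 8, 12, 8, 8, 8, 8, 8, 8, 8, 8, 8, 8, 8, 8, 8, 12],
   [8, 8, 8, 8, 8, 8, 8, 8, 12, 8, 8, 8, 8, 8, 8, 8, 8, 8, 8, 8, 8, 8, 8, 12],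
   [8, 8, 8, 8, 8, 8, 8, 12, 8, 8, 8, 8, 8, 8, 8, 8, 8, 8, 8, 8, 8, 8, 8, 12],
   [8, 8, 8, 8, 8, 8, 12, 8, 8, 8, 8, 8, 8, 8, 8, 8, 8, 8, 8, 8, 8, 8, 8, 12],
   [8, 8, 8, 8, 8, 12, 8, 8, 8, 8, 8, 8, 8, 8, 8, 8, 8, 8, 8, 8, 8, 8, 8, 12],
   [8, 8, 8, 8, 12, 8, 8, 8, 8, 8, 8, 8, 8, 8, 8, 8, 8, 8, 8, 8, 8, 8, 8, 12],
   [8, 8, 8, 12, 8, 8, 8, 8, 8, 8, 8, 8, 8, 8, 8, 8, 8, 8, 8, 8, 8, 8, 8, 12],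
   [8, 8, 12, 8, 8, 8, 8, 8, 8, 8, 8, 8, 8, 8, 8, 8, 8, 8, 8, 8, 8, 8, 8, 12],
   [8, 12, 8, 8, 8, 8, 8, 8, 8, 8, 8, 8, 8, 8, 8, 8, 8, 8, 8, 8, 8, 8, 8, 12],
   [9, 7, 7, 7, 7, 9, 7, 9, 9, 9, 9, 9, 9, 9, 9, 7, 9, 9, 7, 9, 9, 9, 9, 11],
   [9, 7, 7, 7, 9, 9, 9, 7, 7, 9, 9, 9, 9, 9, 9, 9, 9, 9, 9, 9, 7, 9, 7, 11],
   [9, 7, 7, 7, 9, 9, 9, 9, 9, 7, 9, 9, 7, 7, 9, 9, 9, 9, 9, 7, 9, 9, 9, 11],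
   [9, 7, 7, 7, 9, 9, 9, 9, 9, 9, 7, 7, 9, 9, 9, 9, 7, 9, 9, 9, 9, 7, 9, 11],
   [9, 7, 7, 9, 7, 7, 9, 9, 9, 9, 9, 9, 7, 9, 9, 9, 9, 9, 9, 9, 7, 7, 9, 11],
   [9, 7, 7, 9, 7, 9, 9, 7, 9, 7, 9, 7, 9, 9, 7, 9, 9, 9, 9, 9, 9, 9, 9, 11],
   [9, 7, 7, 9, 7, 9, 9, 9, 7, 9, 7, 9, 9, 9, 9, 9, 9, 7, 9, 7, 9, 9, 9, 11],
   [9, 7, 7, 9, 9, 7, 7, 9, 7, 7, 9, 9, 9, 9, 9, 9, 7, 9, 9, 9, 9, 9, 9, 11],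
   [9, 7, 7, 9, 9, 7, 9, 7, 9, 9, 7, 9, 9, 7, 9, 9, 9, 9, 7, 9, 9, 9, 9, 11],
   [9, 7, 7, 9, 9, 7, 9, 9, 9, 9, 9, 7, 9, 9, 9, 7, 9, 9, 9, 7, 9, 9, 7, 11],
   [9, 7, 7, 9, 9, 9, 7, 9, 9, 9, 7, 9, 7, 9, 7, 9, 9, 9, 9, 9, 9, 9, 7, 11],
   [9, 7, 7, 9, 9, 9, 7, 9, 9, 9, 9, 7, 9, 7, 9, 9, 9, 7, 9, 9, 7, 9, 9, 11],
   [9, 7, 7, 9, 9, 9, 9, 7, 9, 9, 9, 9, 7, 9, 9, 7, 7, 7, 9, 9, 9, 9, 9, 11],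
   [9, 7, 7, 9, 9, 9, 9, 9, 7, 9, 9, 9, 9, 7, 7, 7, 9, 9, 9, 9, 9, 7, 9, 11],
   [9, 7, 7, 9, 9, 9, 9, 9, 9, 7, 9, 9, 9, 9, 9, 9, 9, 7, 7, 9, 9, 7, 7, 11],
   [9, 7, 7, 9, 9, 9, 9, 9, 9, 9, 9, 9, 9, 9, 7, 9, 7, 9, 7, 7, 7, 9, 9, 11],
   [9, 7, 9, 7, 7, 7, 9, 9, 9, 7, 7, 9, 9, 9, 9, 9, 9, 9, 9, 9, 9, 9, 7, 11],
   [9, 7, 9, 7, 7, 9, 9, 7, 9, 9, 9, 9, 9, 7, 9, 9, 9, 7, 9, 9, 9, 7, 9, 11],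
   [9, 7, 9, 7, 7, 9, 9, 9, 7, 9, 9, 9, 7, 9, 7, 9, 7, 9, 9, 9, 9, 9, 9, 11],
   [9, 7, 9, 7, 9, 7, 7, 7, 9, 9, 9, 7, 7, 9, 9, 9, 9, 9, 9, 9, 9, 9, 9, 11],
   [9, 7, 9, 7, 9, 7, 9, 9, 7, 9, 9, 9, 9, 9, 9, 9, 9, 9, 7, 7, 9, 7, 9, 11],
   [9, 7, 9, 7, 9, 7, 9, 9, 9, 9, 9, 9, 9, 7, 9, 7, 7, 9, 9, 9, 7, 9, 9, 11],
   [9, 7, 9, 7, 9, 9, 7, 9, 9, 7, 9, 9, 9, 9, 7, 9, 9, 9, 9, 9, 7, 7, 9, 11],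
   [9, 7, 9, 7, 9, 9, 7, 9, 9, 9, 9, 9, 9, 9, 9, 9, 7, 7, 9, 7, 9, 9, 7, 11],
   [9, 7, 9, 7, 9, 9, 9, 7, 9, 9, 7, 9, 9, 9, 7, 7, 9, 9, 9, 7, 9, 9, 9, 11],
   [9, 7, 9, 7, 9, 9, 9, 9, 7, 7, 9, 7, 9, 9, 9, 7, 9, 7, 9, 9, 9, 9, 9, 11],
   [9, 7, 9, 7, 9, 9, 9, 9, 9, 9, 7, 9, 7, 9, 9, 9, 9, 7, 7, 9, 7, 9, 9, 11],
   [9, 7, 9, 7, 9, 9, 9, 9, 9, 9, 9, 7, 9, 7, 7, 9, 9, 9, 7, 9, 9, 9, 7, 11],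
   [9, 7, 9, 9, 7, 7, 7, 9, 9, 9, 9, 9, 9, 7, 7, 9, 9, 9, 9, 7, 9, 9, 9, 11],
   [9, 7, 9, 9, 7, 7, 9, 9, 9, 9, 9, 7, 9, 9, 9, 9, 7, 7, 7, 9, 9, 9, 9, 11],
   [9, 7, 9, 9, 7, 9, 7, 7, 9, 9, 7, 9, 9, 9, 9, 9, 7, 9, 9, 9, 7, 9, 9, 11],
   [9, 7, 9, 9, 7, 9, 7, 9, 7, 9, 9, 7, 9, 9, 9, 9, 9, 9, 9, 9, 9, 7, 7, 11],
   [9, 7, 9, 9, 7, 9, 9, 7, 9, 9, 9, 9, 7, 9, 9, 9, 9, 9, 7, 7, 9, 9, 7, 11],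
   [9, 7, 9, 9, 7, 9, 9, 9, 7, 7, 9, 9, 9, 7, 9, 9, 9, 9, 7, 9, 7, 9, 9, 11],
   [9, 7, 9, 9, 7, 9, 9, 9, 9, 7, 9, 9, 9, 9, 9, 7, 7, 9, 9, 7, 9, 7, 9, 11],
   [9, 7, 9, 9, 7, 9, 9, 9, 9, 9, 7, 7, 7, 7, 9, 7, 9, 9, 9, 9, 9, 9, 9, 11],
   [9, 7, 9, 9, 7, 9, 9, 9, 9, 9, 9, 9, 9, 9, 7, 7, 9, 7, 9, 9, 7, 9, 7, 11],
   [9, 7, 9, 9, 9, 7, 7, 9, 9, 9, 7, 9, 9, 9, 9, 7, 9, 7, 9, 9, 9, 7, 9, 11],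
   [9, 7, 9, 9, 9, 7, 9, 7, 9, 7, 9, 9, 9, 9, 9, 9, 9, 7, 9, 7, 7, 9, 9, 11],
   [9, 7, 9, 9, 9, 7, 9, 7, 9, 9, 9, 9, 9, 9, 7, 9, 7, 9, 9, 9, 9, 7, 7, 11],
   [9, 7, 9, 9, 9, 7, 9, 9, 7, 9, 7, 7, 9, 9, 7, 9, 9, 9, 9, 9, 7, 9, 9, 11],
   [9, 7, 9, 9, 9, 7, 9, 9, 7, 9, 9, 9, 7, 7, 9, 9, 9, 7, 9, 9, 9, 9, 7, 11],
   [9, 7, 9, 9, 9, 7, 9, 9, 9, 7, 9, 9, 7, 9, 7, 7, 9, 9, 7, 9, 9, 9, 9, 11],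
   [9, 7, 9, 9, 9, 9, 7, 7, 7, 9, 9, 9, 9, 9, 7, 9, 9, 7, 7, 9, 9, 9, 9, 11],
   [9, 7, 9, 9, 9, 9, 7, 7, 9, 7, 9, 9, 9, 7, 9, 7, 9, 9, 9, 9, 9, 9, 7, 11],
   [9, 7, 9, 9, 9, 9, 7, 9, 7, 9, 9, 9, 7, 9, 9, 7, 9, 9, 9, 7, 7, 9, 9, 11],
   [9, 7, 9, 9, 9, 9, 7, 9, 9, 7, 7, 7, 9, 9, 9, 9, 9, 9, 7, 7, 9, 9, 9, 11],
   [9, 7, 9, 9, 9, 9, 7, 9, 9, 9, 9, 9, 7, 7, 9, 9, 7, 9, 7, 9, 9, 7, 9, 11],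
   [9, 7, 9, 9, 9, 9, 9, 7, 7, 7, 7, 9, 7, 9, 9, 9, 9, 9, 9, 9, 9, 7, 9, 11],
   [9, 7, 9, 9, 9, 9, 9, 7, 7, 9, 9, 7, 9, 7, 9, 9, 7, 9, 9, 7, 9, 9, 9, 11],
   [9, 7, 9, 9, 9, 9, 9, 7, 9, 9, 9, 7, 9, 9, 9, 7, 9, 9, 7, 9, 7, 7, 9, 11],
   [9, 7, 9, 9, 9, 9, 9, 9, 7, 9, 7, 9, 9, 9, 9, 7, 7, 9, 7, 9, 9, 9, 7, 11],
   [9, 7, 9, 9, 9, 9, 9, 9, 9, 7, 7, 9, 9, 7, 7, 9, 7, 7, 9, 9, 9, 9, 9, 11],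
   [9, 7, 9, 9, 9, 9, 9, 9, 9, 7, 9, 7, 7, 9, 9, 9, 7, 9, 9, 9, 7, 9, 7, 11],
   [9, 7, 9, 9, 9, 9, 9, 9, 9, 9, 7, 9, 9, 7, 9, 9, 9, 9, 9, 7, 7, 7, 7, 11],
   [9, 7, 9, 9, 9, 9, 9, 9, 9, 9, 9, 7, 7, 9, 7, 9, 9, 7, 9, 7, 9, 7, 9, 11],
   [9, 9, 7, 7, 7, 7, 9, 7, 9, 9, 9, 9, 9, 9, 9, 9, 7, 9, 9, 7, 9, 9, 9, 11],
   [9, 9, 7, 7, 7, 9, 9, 9, 9, 9, 7, 9, 9, 7, 7, 9, 9, 9, 9, 9, 7, 9, 9, 11],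
   [9, 9, 7, 7, 7, 9, 9, 9, 9, 9, 9, 7, 7, 9, 9, 9, 9, 7, 9, 9, 9, 9, 7, 11],
   [9, 9, 7, 7, 9, 7, 7, 9, 9, 9, 9, 9, 9, 7, 9, 9, 9, 9, 9, 9, 9, 7, 7, 11],
   [9, 9, 7, 7, 9, 7, 9, 9, 7, 9, 7, 9, 7, 9, 9, 7, 9, 9, 9, 9, 9, 9, 9, 11],
   [9, 9, 7, 7, 9, 7, 9, 9, 9, 7, 9, 7, 9, 9, 9, 9, 9, 9, 7, 9, 7, 9, 9, 11],
   [9, 9, 7, 7, 9, 9, 7, 7, 9, 7, 7, 9, 9, 9, 9, 9, 9, 7, 9, 9, 9, 9, 9, 11],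
   [9, 9, 7, 7, 9, 9, 7, 9, 7, 9, 9, 7, 9, 9, 7, 9, 9, 9, 9, 7, 9, 9, 9, 11],
   [9, 9, 7, 7, 9, 9, 9, 7, 9, 9, 9, 9, 7, 9, 7, 9, 9, 9, 7, 9, 9, 7, 9, 11],
   [9, 9, 7, 7, 9, 9, 9, 9, 7, 9, 9, 9, 9, 7, 9, 9, 7, 7, 7, 9, 9, 9, 9, 11],
   [9, 9, 7, 7, 9, 9, 9, 9, 9, 7, 9, 9, 9, 9, 7, 7, 7, 9, 9, 9, 9, 9, 7, 11],
   [9, 9, 7, 7, 9, 9, 9, 9, 9, 9, 9, 9, 9, 9, 9, 7, 9, 7, 9, 7, 7, 7, 9, 11],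
   [9, 9, 7, 9, 7, 7, 9, 9, 7, 9, 9, 9, 9, 9, 7, 9, 9, 9, 7, 9, 9, 9, 7, 11],
   [9, 9, 7, 9, 7, 7, 9, 9, 9, 7, 9, 9, 9, 7, 9, 7, 9, 7, 9, 9, 9, 9, 9, 11],
   [9, 9, 7, 9, 7, 9, 7, 7, 7, 9, 9, 9, 7, 7, 9, 9, 9, 9, 9, 9, 9, 9, 9, 11],
   [9, 9, 7, 9, 7, 9, 7, 9, 9, 7, 9, 9, 9, 9, 9, 9, 9, 9, 9, 7, 7, 9, 7, 11],
   [9, 9, 7, 9, 7, 9, 7, 9, 9, 9, 9, 9, 9, 9, 7, 9, 7, 7, 9, 9, 9, 7, 9, 11],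
   [9, 9, 7, 9, 7, 9, 9, 7, 9, 9, 7, 9, 9, 9, 9, 7, 9, 9, 9, 9, 9, 7, 7, 11],
   [9, 9, 7, 9, 7, 9, 9, 9, 7, 9, 9, 7, 9, 9, 9, 7, 7, 9, 9, 9, 7, 9, 9, 11],
   [9, 9, 7, 9, 7, 9, 9, 9, 9, 7, 7, 9, 7, 9, 9, 9, 7, 9, 7, 9, 9, 9, 9, 11],
   [9, 9, 7, 9, 7, 9, 9, 9, 9, 9, 9, 7, 9, 7, 9, 9, 9, 9, 7, 7, 9, 7, 9, 11],
   [9, 9, 7, 9, 9, 7, 7, 7, 9, 9, 9, 9, 9, 9, 7, 7, 9, 9, 9, 9, 7, 9, 9, 11],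
   [9, 9, 7, 9, 9, 7, 7, 9, 9, 9, 9, 9, 7, 9, 9, 9, 9, 7, 7, 7, 9, 9, 9, 11],
   [9, 9, 7, 9, 9, 7, 9, 7, 7, 9, 9, 7, 9, 9, 9, 9, 9, 7, 9, 9, 9, 7, 9, 11],
   [9, 9, 7, 9, 9, 7, 9, 9, 9, 7, 7, 9, 9, 9, 7, 9, 9, 9, 9, 7, 9, 7, 9, 11],
   [9, 9, 7, 9, 9, 7, 9, 9, 9, 9, 7, 9, 9, 9, 9, 9, 7, 7, 9, 9, 7, 9, 7, 11],
   [9, 9, 7, 9, 9, 7, 9, 9, 9, 9, 9, 7, 7, 7, 7, 9, 7, 9, 9, 9, 9, 9, 9, 11],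
   [9, 9, 7, 9, 9, 9, 7, 7, 9, 9, 9, 7, 9, 9, 9, 9, 7, 9, 7, 9, 9, 9, 7, 11],
   [9, 9, 7, 9, 9, 9, 7, 9, 7, 9, 7, 9, 9, 9, 9, 9, 9, 9, 7, 9, 7, 7, 9, 11],
   [9, 9, 7, 9, 9, 9, 7, 9, 9, 7, 9, 7, 7, 9, 9, 7, 9, 9, 9, 9, 9, 7, 9, 11],
   [9, 9, 7, 9, 9, 9, 7, 9, 9, 9, 7, 9, 9, 7, 9, 7, 7, 9, 9, 7, 9, 9, 9, 11],
   [9, 9, 7, 9, 9, 9, 9, 7, 7, 7, 9, 9, 9, 9, 9, 7, 9, 9, 7, 7, 9, 9, 9, 11],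
   [9, 9, 7, 9, 9, 9, 9, 7, 9, 7, 9, 9, 9, 7, 9, 9, 7, 9, 9, 9, 7, 7, 9, 11],
   [9, 9, 7, 9, 9, 9, 9, 7, 9, 9, 7, 7, 7, 9, 9, 9, 9, 9, 9, 7, 7, 9, 9, 11],
   [9, 9, 7, 9, 9, 9, 9, 7, 9, 9, 9, 9, 9, 7, 7, 9, 9, 7, 9, 7, 9, 9, 7, 11],
   [9, 9, 7, 9, 9, 9, 9, 9, 7, 7, 7, 7, 9, 7, 9, 9, 9, 9, 9, 9, 9, 9, 7, 11],
   [9, 9, 7, 9, 9, 9, 9, 9, 7, 7, 9, 9, 7, 9, 7, 9, 9, 7, 9, 9, 7, 9, 9, 11],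
   [9, 9, 7, 9, 9, 9, 9, 9, 7, 9, 9, 9, 7, 9, 9, 9, 7, 9, 9, 7, 9, 7, 7, 11],
   [9, 9, 7, 9, 9, 9, 9, 9, 9, 9, 7, 7, 9, 9, 7, 7, 9, 7, 7, 9, 9, 9, 9, 11],
   [9, 9, 7, 9, 9, 9, 9, 9, 9, 9, 9, 9, 7, 7, 9, 7, 9, 9, 7, 9, 7, 9, 7, 11],
   [9, 9, 9, 7, 7, 7, 7, 9, 7, 9, 9, 9, 9, 9, 9, 9, 9, 7, 9, 9, 7, 9, 9, 11],
   [9, 9, 9, 7, 7, 7, 9, 9, 9, 9, 9, 7, 9, 9, 7, 7, 9, 9, 9, 9, 9, 7, 9, 11],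
   [9, 9, 9, 7, 7, 9, 7, 9, 9, 7, 9, 7, 9, 7, 9, 9, 7, 9, 9, 9, 9, 9, 9, 11],
   [9, 9, 9, 7, 7, 9, 7, 9, 9, 9, 7, 9, 7, 9, 9, 9, 9, 9, 9, 7, 9, 7, 9, 11],
   [9, 9, 9, 7, 7, 9, 9, 7, 7, 9, 7, 7, 9, 9, 9, 9, 9, 9, 7, 9, 9, 9, 9, 11],
   [9, 9, 9, 7, 7, 9, 9, 7, 9, 7, 9, 9, 7, 9, 9, 7, 9, 9, 9, 9, 7, 9, 9, 11],
   [9, 9, 9, 7, 7, 9, 9, 9, 7, 9, 9, 9, 9, 7, 9, 7, 9, 9, 9, 7, 9, 9, 7, 11],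
   [9, 9, 9, 7, 7, 9, 9, 9, 9, 7, 9, 9, 9, 9, 7, 9, 9, 7, 7, 7, 9, 9, 9, 11],
   [9, 9, 9, 7, 7, 9, 9, 9, 9, 9, 9, 9, 9, 9, 9, 9, 7, 9, 7, 9, 7, 7, 7, 11],
   [9, 9, 9, 7, 9, 7, 7, 9, 9, 9, 7, 9, 9, 9, 7, 9, 7, 9, 7, 9, 9, 9, 9, 11],
   [9, 9, 9, 7, 9, 7, 9, 7, 7, 7, 9, 9, 9, 7, 7, 9, 9, 9, 9, 9, 9, 9, 9, 11],
   [9, 9, 9, 7, 9, 7, 9, 7, 9, 9, 9, 9, 9, 9, 9, 7, 9, 7, 7, 9, 9, 9, 7, 11],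
   [9, 9, 9, 7, 9, 7, 9, 9, 9, 7, 9, 9, 7, 9, 9, 9, 7, 7, 9, 9, 9, 7, 9, 11],
   [9, 9, 9, 7, 9, 7, 9, 9, 9, 9, 7, 7, 9, 7, 9, 9, 9, 7, 9, 7, 9, 9, 9, 11],
   [9, 9, 9, 7, 9, 7, 9, 9, 9, 9, 9, 9, 7, 9, 7, 9, 9, 9, 9, 7, 7, 9, 7, 11],
   [9, 9, 9, 7, 9, 9, 7, 7, 7, 9, 9, 9, 9, 9, 9, 7, 7, 9, 9, 9, 9, 7, 9, 11],
   [9, 9, 9, 7, 9, 9, 7, 7, 9, 9, 9, 9, 9, 7, 9, 9, 9, 9, 7, 7, 7, 9, 9, 11],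
   [9, 9, 9, 7, 9, 9, 7, 9, 7, 7, 9, 9, 7, 9, 9, 9, 9, 9, 7, 9, 9, 9, 7, 11],
   [9, 9, 9, 7, 9, 9, 7, 9, 9, 9, 7, 7, 9, 9, 9, 7, 9, 9, 9, 9, 7, 9, 7, 11],
   [9, 9, 9, 7, 9, 9, 7, 9, 9, 9, 9, 9, 7, 7, 7, 7, 9, 7, 9, 9, 9, 9, 9, 11],
   [9, 9, 9, 7, 9, 9, 9, 7, 9, 7, 9, 7, 9, 9, 9, 9, 9, 9, 9, 7, 9, 7, 7, 11],
   [9, 9, 9, 7, 9, 9, 9, 7, 9, 9, 7, 9, 7, 7, 9, 9, 7, 9, 9, 9, 9, 9, 7, 11],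
   [9, 9, 9, 7, 9, 9, 9, 7, 9, 9, 9, 7, 9, 9, 7, 9, 7, 7, 9, 9, 7, 9, 9, 11],
   [9, 9, 9, 7, 9, 9, 9, 9, 7, 7, 7, 9, 9, 9, 9, 9, 7, 9, 9, 7, 7, 9, 9, 11],
   [9, 9, 9, 7, 9, 9, 9, 9, 7, 9, 7, 9, 9, 9, 7, 9, 9, 7, 9, 9, 9, 7, 7, 11],
   [9, 9, 9, 7, 9, 9, 9, 9, 7, 9, 9, 7, 7, 7, 9, 9, 9, 9, 9, 9, 7, 7, 9, 11],
   [9, 9, 9, 7, 9, 9, 9, 9, 9, 7, 7, 9, 9, 7, 9, 7, 9, 9, 7, 9, 9, 7, 9, 11],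
   [9, 9, 9, 7, 9, 9, 9, 9, 9, 9, 9, 7, 7, 9, 9, 7, 7, 9, 7, 7, 9, 9, 9, 11],
   [9, 9, 9, 9, 7, 7, 7, 7, 9, 7, 9, 9, 9, 9, 9, 9, 9, 9, 7, 9, 9, 7, 9, 11],
   [9, 9, 9, 9, 7, 7, 7, 9, 9, 9, 9, 9, 7, 9, 9, 7, 7, 9, 9, 9, 9, 9, 7, 11],
   [9, 9, 9, 9, 7, 7, 9, 7, 9, 9, 7, 9, 7, 9, 7, 9, 9, 7, 9, 9, 9, 9, 9, 11],
   [9, 9, 9, 9, 7, 7, 9, 7, 9, 9, 9, 7, 9, 7, 9, 9, 9, 9, 9, 9, 7, 9, 7, 11],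
   [9, 9, 9, 9, 7, 7, 9, 9, 7, 7, 9, 7, 7, 9, 9, 9, 9, 9, 9, 7, 9, 9, 9, 11],
   [9, 9, 9, 9, 7, 7, 9, 9, 7, 9, 7, 9, 9, 7, 9, 9, 7, 9, 9, 9, 9, 7, 9, 11],
   [9, 9, 9, 9, 7, 7, 9, 9, 9, 9, 7, 9, 9, 9, 9, 7, 9, 9, 7, 7, 7, 9, 9, 11],
   [9, 9, 9, 9, 7, 9, 7, 7, 9, 9, 9, 7, 9, 9, 9, 7, 9, 7, 9, 7, 9, 9, 9, 11],
   [9, 9, 9, 9, 7, 9, 7, 9, 7, 7, 7, 9, 9, 9, 7, 7, 9, 9, 9, 9, 9, 9, 9, 11],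
   [9, 9, 9, 9, 7, 9, 7, 9, 9, 9, 7, 9, 9, 7, 9, 9, 9, 7, 7, 9, 9, 9, 7, 11],
   [9, 9, 9, 9, 7, 9, 7, 9, 9, 9, 9, 7, 7, 9, 7, 9, 9, 9, 7, 9, 7, 9, 9, 11],
   [9, 9, 9, 9, 7, 9, 9, 7, 7, 7, 9, 9, 9, 9, 9, 9, 7, 7, 9, 9, 9, 9, 7, 11],
   [9, 9, 9, 9, 7, 9, 9, 7, 7, 9, 9, 9, 9, 9, 7, 9, 9, 9, 9, 7, 7, 7, 9, 11],
   [9, 9, 9, 9, 7, 9, 9, 7, 9, 9, 9, 9, 9, 7, 7, 7, 7, 9, 7, 9, 9, 9, 9, 11],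
   [9, 9, 9, 9, 7, 9, 9, 9, 7, 9, 9, 9, 7, 9, 9, 7, 9, 7, 7, 9, 9, 7, 9, 11],
   [9, 9, 9, 9, 7, 9, 9, 9, 9, 7, 7, 7, 9, 9, 9, 9, 9, 7, 9, 9, 7, 7, 9, 11],
   [9, 9, 9, 9, 7, 9, 9, 9, 9, 7, 9, 9, 7, 7, 7, 9, 9, 9, 9, 9, 9, 7, 7, 11],
   [9, 9, 9, 9, 7, 9, 9, 9, 9, 9, 7, 7, 9, 9, 7, 9, 7, 9, 9, 7, 9, 9, 7, 11],
   [9, 9, 9, 9, 7, 9, 9, 9, 9, 9, 9, 9, 7, 7, 9, 9, 7, 7, 9, 7, 7, 9, 9, 11],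
   [9, 9, 9, 9, 9, 7, 7, 7, 7, 9, 7, 9, 9, 9, 9, 9, 9, 9, 9, 7, 9, 9, 7, 11],
   [9, 9, 9, 9, 9, 7, 7, 9, 7, 9, 9, 7, 9, 7, 9, 7, 9, 9, 7, 9, 9, 9, 9, 11],
   [9, 9, 9, 9, 9, 7, 7, 9, 9, 7, 7, 9, 7, 7, 9, 9, 9, 9, 9, 9, 7, 9, 9, 11],
   [9, 9, 9, 9, 9, 7, 7, 9, 9, 7, 9, 7, 9, 9, 7, 9, 9, 7, 9, 9, 9, 9, 7, 11],
   [9, 9, 9, 9, 9, 7, 7, 9, 9, 9, 9, 7, 9, 9, 9, 9, 7, 9, 9, 7, 7, 7, 9, 11],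
   [9, 9, 9, 9, 9, 7, 9, 7, 7, 9, 9, 9, 7, 9, 9, 9, 7, 9, 7, 9, 7, 9, 9, 11],
   [9, 9, 9, 9, 9, 7, 9, 7, 9, 7, 7, 7, 9, 9, 9, 7, 7, 9, 9, 9, 9, 9, 9, 11],
   [9, 9, 9, 9, 9, 7, 9, 7, 9, 9, 9, 9, 7, 7, 9, 7, 9, 9, 9, 7, 9, 7, 9, 11],
   [9, 9, 9, 9, 9, 7, 9, 9, 7, 7, 9, 9, 9, 9, 9, 7, 9, 9, 9, 9, 7, 7, 7, 11],
   [9, 9, 9, 9, 9, 7, 9, 9, 7, 9, 9, 9, 9, 9, 7, 7, 7, 7, 9, 7, 9, 9, 9, 11],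
   [9, 9, 9, 9, 9, 7, 9, 9, 9, 7, 9, 9, 9, 7, 9, 9, 7, 9, 7, 7, 9, 9, 7, 11],
   [9, 9, 9, 9, 9, 7, 9, 9, 9, 9, 7, 7, 7, 9, 9, 9, 9, 9, 7, 9, 9, 7, 7, 11],
   [9, 9, 9, 9, 9, 7, 9, 9, 9, 9, 9, 9, 9, 7, 7, 9, 9, 7, 7, 9, 7, 7, 9, 11],
   [9, 9, 9, 9, 9, 9, 7, 7, 9, 7, 9, 9, 7, 9, 7, 9, 7, 9, 9, 7, 9, 9, 9, 11],
   [9, 9, 9, 9, 9, 9, 7, 7, 9, 9, 7, 7, 9, 7, 7, 9, 9, 9, 9, 9, 9, 7, 9, 11],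
   [9, 9, 9, 9, 9, 9, 7, 7, 9, 9, 9, 9, 7, 9, 9, 9, 9, 7, 9, 9, 7, 7, 7, 11],
   [9, 9, 9, 9, 9, 9, 7, 9, 7, 7, 9, 9, 9, 7, 9, 9, 9, 7, 9, 7, 9, 7, 9, 11],
   [9, 9, 9, 9, 9, 9, 7, 9, 7, 9, 7, 7, 7, 9, 9, 9, 7, 7, 9, 9, 9, 9, 9, 11],
   [9, 9, 9, 9, 9, 9, 7, 9, 7, 9, 9, 9, 9, 7, 7, 9, 7, 9, 9, 9, 7, 9, 7, 11],
   [9, 9, 9, 9, 9, 9, 7, 9, 9, 7, 9, 9, 9, 9, 9, 7, 7, 7, 7, 9, 7, 9, 9, 11],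
   [9, 9, 9, 9, 9, 9, 7, 9, 9, 9, 9, 9, 9, 9, 7, 7, 9, 9, 7, 7, 9, 7, 7, 11],
   [9, 9, 9, 9, 9, 9, 9, 7, 7, 9, 7, 9, 9, 7, 9, 7, 9, 7, 9, 9, 7, 9, 9, 11],
   [9, 9, 9, 9, 9, 9, 9, 7, 7, 9, 9, 7, 7, 9, 7, 7, 9, 9, 9, 9, 9, 9, 7, 11],
   [9, 9, 9, 9, 9, 9, 9, 7, 9, 7, 7, 9, 9, 9, 7, 9, 9, 9, 7, 9, 7, 9, 7, 11],
   [9, 9, 9, 9, 9, 9, 9, 7, 9, 7, 9, 7, 7, 7, 9, 9, 9, 7, 7, 9, 9, 9, 9, 11],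
   [9, 9, 9, 9, 9, 9, 9, 7, 9, 9, 7, 9, 9, 9, 9, 9, 7, 7, 7, 7, 9, 7, 9, 11],
   [9, 9, 9, 9, 9, 9, 9, 9, 7, 7, 9, 7, 9, 9, 7, 9, 7, 9, 7, 9, 9, 7, 9, 11],
   [9, 9, 9, 9, 9, 9, 9, 9, 7, 9, 7, 9, 7, 7, 7, 9, 9, 9, 7, 7, 9, 9, 9, 11],
   [9, 9, 9, 9, 9, 9, 9, 9, 7, 9, 9, 7, 9, 9, 9, 9, 9, 7, 7, 7, 7, 9, 7, 11],
   [9, 9, 9, 9, 9, 9, 9, 9, 9, 7, 7, 9, 7, 9, 9, 7, 9, 7, 9, 7, 9, 9, 7, 11],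
   [9, 9, 9, 9, 9, 9, 9, 9, 9, 7, 9, 7, 9, 7, 7, 7, 9, 9, 9, 7, 7, 9, 9, 11],
   [9, 9, 9, 9, 9, 9, 9, 9, 9, 9, 7, 9, 7, 9, 7, 7, 7, 9, 9, 9, 7, 7, 9, 11],
   [9, 9, 9, 9, 9, 9, 9, 9, 9, 9, 9, 7, 9, 7, 9, 7, 7, 7, 9, 9, 9, 7, 7, 11],
   [10, 8, 8, 8, 8, 8, 8, 8, 8, 8, 8, 8, 10, 8, 10, 8, 10, 10, 10, 8, 8, 8, 10, 10],
   [10, 8, 8, 8, 8, 8, 8, 8, 8, 8, 10, 10, 8, 10, 8, 8, 10, 8, 10, 8, 10, 8, 8, 10],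
   [10, 8, 8, 8, 8, 8, 8, 8, 8, 10, 8, 8, 10, 8, 8, 8, 8, 8, 10, 10, 10, 10, 8, 10],
   [10, 8, 8, 8, 8, 8, 8, 8, 10, 8, 10, 10, 8, 8, 8, 10, 8, 8, 8, 10, 8, 10, 8, 10],
   [10, 8, 8, 8, 8, 8, 8, 8, 10, 10, 8, 8, 10, 10, 8, 10, 10, 8, 8, 8, 8, 8, 8, 10],
   [10, 8, 8, 8, 8, 8, 8, 10, 8, 8, 8, 8, 8, 8, 8, 10, 10, 8, 8, 10, 10, 8, 10, 10],
   [10, 8, 8, 8, 8, 8, 8, 10, 8, 10, 8, 8, 8, 8, 10, 10, 8, 10, 8, 8, 8, 10, 8, 10],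
   [10, 8, 8, 8, 8, 8, 8, 10, 10, 8, 8, 8, 8, 10, 8, 8, 8, 8, 10, 8, 8, 10, 10, 10],
   [10, 8, 8, 8, 8, 8, 10, 8, 8, 8, 8, 10, 10, 10, 8, 8, 8, 8, 8, 10, 8, 8, 10, 10],
   [10, 8, 8, 8, 8, 8, 10, 8, 8, 8, 10, 8, 8, 8, 10, 8, 8, 10, 8, 10, 10, 8, 8, 10],
   [10, 8, 8, 8, 8, 8, 10, 8, 8, 10, 10, 8, 8, 8, 8, 8, 10, 8, 8, 8, 8, 10, 10, 10],
   [10, 8, 8, 8, 8, 8, 10, 10, 8, 8, 10, 8, 10, 8, 8, 10, 8, 8, 10, 8, 8, 8, 8, 10],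
   [10, 8, 8, 8, 8, 8, 10, 10, 10, 10, 8, 10, 8, 8, 8, 8, 8, 8, 8, 8, 10, 8, 8, 10],
   [10, 8, 8, 8, 8, 10, 8, 8, 8, 8, 8, 10, 10, 8, 8, 10, 8, 10, 8, 8, 10, 8, 8, 10],
   [10, 8, 8, 8, 8, 10, 8, 8, 8, 8, 10, 8, 8, 10, 10, 10, 8, 8, 8, 8, 8, 8, 10, 10],
   [10, 8, 8, 8, 8, 10, 8, 8, 10, 10, 10, 8, 8, 8, 8, 8, 8, 10, 10, 8, 8, 8, 8, 10],
   [10, 8, 8, 8, 8, 10, 8, 10, 8, 8, 8, 10, 8, 8, 10, 8, 8, 8, 10, 10, 8, 8, 8, 10],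
   [10, 8, 8, 8, 8, 10, 10, 8, 10, 8, 8, 8, 10, 8, 10, 8, 8, 8, 8, 8, 8, 10, 8, 10],
   [10, 8, 8, 8, 8, 10, 10, 10, 8, 8, 8, 8, 8, 10, 8, 8, 10, 10, 8, 8, 8, 8, 8, 10],
   [10, 8, 8, 8, 10, 8, 8, 8, 8, 10, 8, 10, 8, 8, 8, 10, 8, 8, 10, 8, 8, 8, 10, 10],
   [10, 8, 8, 8, 10, 8, 8, 8, 10, 8, 8, 10, 8, 10, 10, 8, 8, 10, 8, 8, 8, 8, 8, 10],
   [10, 8, 8, 8, 10, 8, 8, 8, 10, 8, 10, 8, 10, 8, 8, 8, 8, 8, 8, 8, 10, 8, 10, 10],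
   [10, 8, 8, 8, 10, 8, 8, 10, 8, 8, 8, 10, 10, 8, 8, 8, 10, 8, 8, 8, 8, 10, 8, 10],
   [10, 8, 8, 8, 10, 8, 8, 10, 8, 10, 10, 8, 8, 10, 8, 8, 8, 8, 8, 10, 8, 8, 8, 10],
   [10, 8, 8, 8, 10, 8, 10, 8, 8, 8, 8, 8, 8, 10, 8, 10, 8, 8, 8, 8, 10, 10, 8, 10],
   [10, 8, 8, 8, 10, 8, 10, 8, 10, 8, 8, 8, 8, 8, 8, 8, 10, 8, 10, 10, 8, 8, 8, 10],
   [10, 8, 8, 8, 10, 10, 8, 8, 8, 8, 8, 8, 8, 8, 8, 8, 8, 10, 8, 10, 8, 10, 10, 10],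
   [10, 8, 8, 8, 10, 10, 8, 8, 8, 10, 8, 8, 8, 8, 10, 8, 10, 8, 8, 8, 10, 8, 8, 10],
   [10, 8, 8, 10, 8, 8, 8, 8, 8, 8, 8, 8, 8, 10, 10, 8, 10, 8, 8, 10, 8, 10, 8, 10],
   [10, 8, 8, 10, 8, 8, 8, 8, 8, 10, 8, 8, 8, 10, 8, 8, 8, 10, 8, 8, 10, 8, 10, 10],
   [10, 8, 8, 10, 8, 8, 8, 8, 8, 10, 10, 10, 10, 8, 10, 8, 8, 8, 8, 8, 8, 8, 8, 10],
   [10, 8, 8, 10, 8, 8, 8, 8, 10, 8, 8, 8, 8, 8, 10, 10, 8, 8, 10, 8, 10, 8, 8, 10],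
   [10, 8, 8, 10, 8, 8, 8, 10, 10, 8, 8, 8, 10, 8, 8, 8, 8, 10, 8, 10, 8, 8, 8, 10],
   [10, 8, 8, 10, 8, 8, 10, 8, 8, 8, 8, 10, 8, 8, 8, 8, 8, 10, 10, 8, 8, 10, 8, 10],
   [10, 8, 8, 10, 8, 10, 8, 8, 10, 8, 8, 10, 8, 8, 8, 8, 10, 8, 8, 8, 8, 8, 10, 10],
   [10, 8, 8, 10, 8, 10, 8, 10, 8, 8, 10, 8, 8, 8, 8, 8, 8, 8, 8, 8, 10, 10, 8, 10],
   [10, 8, 8, 10, 8, 10, 10, 8, 8, 10, 8, 8, 8, 8, 8, 10, 8, 8, 8, 10, 8, 8, 8, 10],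
   [10, 8, 8, 10, 10, 8, 8, 8, 8, 8, 10, 8, 8, 8, 8, 10, 10, 10, 8, 8, 8, 8, 8, 10],
   [10, 8, 8, 10, 10, 8, 10, 10, 8, 8, 8, 8, 8, 8, 10, 8, 8, 8, 8, 8, 8, 8, 10, 10],
   [10, 8, 8, 10, 10, 10, 8, 8, 8, 8, 8, 8, 10, 10, 8, 8, 8, 8, 10, 8, 8, 8, 8, 10],
   [10, 8, 10, 8, 8, 8, 8, 8, 8, 8, 8, 10, 8, 8, 10, 8, 8, 8, 8, 8, 10, 10, 10, 10],
   [10, 8, 10, 8, 8, 8, 8, 8, 8, 8, 10, 8, 10, 10, 8, 8, 8, 10, 8, 8, 8, 10, 8, 10],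
   [10, 8, 10, 8, 8, 8, 8, 8, 8, 10, 8, 10, 8, 8, 8, 8, 10, 10, 8, 10, 8, 8, 8, 10],
   [10, 8, 10, 8, 8, 8, 8, 10, 10, 8, 10, 8, 8, 8, 10, 8, 10, 8, 8, 8, 8, 8, 8, 10],
   [10, 8, 10, 8, 8, 8, 10, 8, 8, 10, 8, 8, 8, 10, 10, 8, 8, 8, 10, 8, 8, 8, 8, 10],
   [10, 8, 10, 8, 8, 8, 10, 8, 10, 8, 8, 8, 8, 8, 8, 10, 8, 10, 8, 8, 8, 8, 10, 10],
   [10, 8, 10, 8, 8, 10, 8, 8, 8, 8, 8, 8, 8, 8, 8, 10, 10, 8, 10, 8, 8, 10, 8, 10],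
   [10, 8, 10, 8, 8, 10, 8, 8, 10, 8, 8, 8, 8, 10, 8, 8, 8, 8, 8, 10, 10, 8, 8, 10],
   [10, 8, 10, 8, 8, 10, 8, 10, 8, 10, 8, 8, 10, 8, 8, 8, 8, 8, 8, 8, 8, 8, 10, 10],
   [10, 8, 10, 8, 10, 8, 8, 8, 8, 8, 8, 8, 10, 8, 10, 10, 8, 8, 8, 10, 8, 8, 8, 10],
   [10, 8, 10, 8, 10, 8, 8, 10, 8, 8, 8, 8, 8, 8, 8, 8, 8, 10, 10, 8, 10, 8, 8, 10],
   [10, 8, 10, 8, 10, 10, 10, 8, 8, 8, 10, 10, 8, 8, 8, 8, 8, 8, 8, 8, 8, 8, 8, 10],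
   [10, 8, 10, 10, 8, 8, 8, 8, 8, 8, 10, 8, 8, 8, 8, 8, 8, 8, 10, 10, 8, 8, 10, 10],
   [10, 8, 10, 10, 8, 8, 8, 10, 8, 8, 8, 10, 8, 10, 8, 10, 8, 8, 8, 8, 8, 8, 8, 10],
   [10, 8, 10, 10, 8, 8, 10, 8, 8, 8, 8, 8, 10, 8, 8, 8, 10, 8, 8, 8, 10, 8, 8, 10],
   [10, 8, 10, 10, 10, 8, 8, 8, 10, 10, 8, 8, 8, 8, 8, 8, 8, 8, 8, 8, 8, 10, 8, 10],
   [10, 10, 8, 8, 8, 8, 8, 8, 8, 8, 8, 8, 8, 10, 8, 10, 8, 10, 10, 10, 8, 8, 8, 10],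
   [10, 10, 8, 8, 8, 8, 8, 8, 10, 8, 8, 8, 8, 8, 8, 8, 10, 10, 8, 8, 10, 10, 8, 10],
   [10, 10, 8, 8, 8, 8, 8, 8, 10, 10, 8, 8, 8, 8, 10, 8, 8, 8, 8, 10, 8, 8, 10, 10],
   [10, 10, 8, 8, 8, 8, 8, 10, 8, 8, 8, 8, 10, 10, 10, 8, 8, 8, 8, 8, 10, 8, 8, 10],
   [10, 10, 8, 8, 8, 8, 8, 10, 8, 8, 10, 10, 8, 8, 8, 8, 8, 10, 8, 8, 8, 8, 10, 10],
   [10, 10, 8, 8, 8, 8, 10, 8, 8, 8, 8, 10, 8, 8, 10, 10, 10, 8, 8, 8, 8, 8, 8, 10],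
   [10, 10, 8, 8, 8, 10, 8, 8, 8, 8, 10, 8, 10, 8, 8, 8, 10, 8, 8, 10, 8, 8, 8, 10],
   [10, 10, 8, 8, 8, 10, 8, 8, 8, 10, 8, 10, 8, 10, 8, 8, 8, 8, 8, 8, 8, 10, 8, 10],
   [10, 10, 8, 8, 8, 10, 10, 8, 8, 8, 8, 8, 8, 8, 8, 8, 8, 8, 10, 8, 10, 8, 10, 10],
   [10, 10, 8, 8, 10, 8, 8, 8, 8, 8, 10, 8, 8, 8, 10, 8, 8, 8, 10, 8, 8, 10, 8, 10],
   [10, 10, 8, 8, 10, 8, 10, 8, 8, 10, 8, 8, 10, 8, 8, 8, 8, 10, 8, 8, 8, 8, 8, 10],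
   [10, 10, 8, 8, 10, 10, 8, 10, 10, 8, 8, 8, 8, 8, 8, 10, 8, 8, 8, 8, 8, 8, 8, 10],
   [10, 10, 8, 10, 8, 8, 8, 8, 8, 8, 8, 8, 10, 8, 8, 10, 8, 8, 8, 8, 8, 10, 10, 10],
   [10, 10, 8, 10, 8, 8, 8, 10, 8, 10, 8, 8, 8, 8, 8, 8, 10, 8, 10, 8, 8, 8, 8, 10],
   [10, 10, 8, 10, 8, 8, 10, 8, 10, 8, 10, 8, 8, 10, 8, 8, 8, 8, 8, 8, 8, 8, 8, 10],
   [10, 10, 8, 10, 10, 8, 8, 8, 8, 8, 8, 10, 8, 8, 8, 8, 8, 8, 8, 10, 10, 8, 8, 10],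
   [10, 10, 10, 8, 8, 8, 8, 8, 8, 10, 10, 8, 8, 8, 8, 10, 8, 8, 8, 8, 10, 8, 8, 10],
   [10, 10, 10, 8, 8, 8, 8, 8, 10, 8, 8, 10, 10, 8, 8, 8, 8, 8, 10, 8, 8, 8, 8, 10],
   [10, 10, 10, 8, 8, 8, 10, 10, 8, 8, 8, 8, 8, 8, 8, 8, 8, 8, 8, 10, 8, 10, 8, 10],
   [10, 10, 10, 8, 10, 8, 8, 8, 8, 8, 8, 8, 8, 10, 8, 8, 10, 8, 8, 8, 8, 8, 10, 10],
   [10, 10, 10, 10, 8, 10, 8, 8, 8, 8, 8, 8, 8, 8, 10, 8, 8, 10, 8, 8, 8, 8, 8, 10]]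

/-- the lists of coordinates of the points. -/
def dBrPts : List (List ℤ) := dBrPtsN.map (fun l => l.map (fun a => Int.ofNat a - 8))

/-- the bridge. -/
def dBr : BrD :=
  { lws := dBrLws, pts := dBrPts, rt := 21, parJ := [108, 21, 17, 63, 50, 1, 194, 14, 64, 113, 104, 121, 197, 144, 195, 2, 20, 73, 222, 88, 137, 0, 151, 269, 190, 74, 238, 229, 97, 236, 5, 1, 45, 248, 113, 73, 115, 139, 234, 251, 69, 29, 148, 52, 176, 191, 179, 182, 142, 75, 243, 119, 203, 245, 135, 210, 3, 39, 197, 224, 165, 235, 127, 67, 76, 115, 69, 269, 25, 42, 48, 219, 157, 51, 1, 168, 74, 74, 127, 148, 185, 178, 186, 255, 182, 190, 76, 174, 105, 21, 153, 152, 67, 268, 210, 92, 257, 144, 78, 264, 110,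 25, 131, 219, 43, 29, 238, 135, 109, 21, 31, 84, 178, 195, 194, 109, 257, 11, 172, 21, 5, 203, 191, 146, 160, 176, 241, 25, 253, 268, 86, 0, 41, 170, 254, 73, 3, 115, 77, 65, 168, 30, 77, 250, 67, 3, 257, 22, 89, 119, 215, 246, 79, 120, 8, 40, 271, 185, 186, 126, 214, 144, 241, 125, 240, 86, 43, 99, 31, 219, 208, 33, 35, 153, 195, 27, 23, 242, 23, 209, 249, 267, 42, 64, 263, 5, 236, 142, 138, 45, 142, 31, 11, 88, 36, 149, 220, 191, 266, 234, 122, 149, 254, 236, 224, 30, 190, 53, 151, 51, 158, 52, 269, 201, 226, 230, 251, 30, 201, 254, 229, 270, 202, 62, 110, 251, 109, 211, 250, 212, 120, 134, 214, 157, 246, 244, 89, 247, 246, 149, 212, 226, 203, 79, 148, 244, 119, 41, 65,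 185, 241, 201, 213, 23, 226, 158, 258, 212, 152, 26, 242, 86, 153, 235, 42, 211, 264, 208, 209, 89, 239, 110, 72, 101, 199], parL := [1, 1, 1, 0, 3, 2, 2, 1, 2, 0, 0, 3, 1, 1, 1, 2, 3, 2, 2, 1, 1, 0, 0, 0, 0, 3, 3, 0, 1, 0, 1, 3, 2, 2, 1, 1, 0, 3, 0, 3, 3, 3, 2, 3, 0, 0, 0, 1, 0, 3, 0, 2, 0, 1, 3, 0, 2, 0, 2, 1, 3, 0, 1, 3, 0, 3, 0, 1, 0, 0, 2, 0, 3, 2, 1, 1, 2, 1, 3, 0, 2, 2, 0, 2, 0, 1, 1, 0, 2, 0, 2, 3, 2, 1, 3, 0, 1, 3, 0, 1, 1, 1, 3, 2, 3, 0, 2, 2, 1, 3, 1, 0, 0, 3, 0, 0, 2, 0, 2, 2, 2, 3, 3, 3, 1, 3, 1, 3, 0, 2, 2, 1, 3, 2, 3, 0, 0, 2, 1, 0, 0, 2, 3, 3, 1, 3, 3, 3, 2, 1, 0, 3, 0, 0, 2, 0, 1, 3, 2, 3, 1, 2, 3, 1, 3, 1, 0, 1, 3, 1, 2, 0, 1, 3, 0, 2, 0, 3, 2, 3, 2, 3, 2,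 0, 1, 0, 2, 1, 3, 0, 3, 0, 1, 0, 2, 3, 1, 2, 3, 1, 1, 1, 0, 3, 3, 3, 3, 1, 1, 1, 0, 2, 3, 3, 1, 2, 1, 1, 2, 2, 2, 2, 2, 1, 3, 2, 3, 1, 2, 0, 2, 3, 2, 1, 2, 2, 0, 2, 0, 2, 3, 3, 1, 2, 1, 1, 0, 1, 1, 0, 0, 1, 0, 3, 0, 1, 2, 1, 0, 1, 1, 3, 0, 2, 1, 2, 3, 3, 1, 3, 0, 2, 3, 3, 1], dp := [3, 1, 5, 5, 6, 2, 5, 5, 5, 5, 7, 5, 5, 5, 4, 6, 5, 4, 6, 6, 4, 0, 4, 3, 6, 3, 4, 5, 6, 3, 3, 2, 5, 5, 5, 4, 3, 5, 4, 5, 5, 4, 3, 5, 5, 4, 5, 5, 5, 5, 5, 2, 4, 5, 5, 6, 6, 6, 5, 5, 6, 5, 5, 4, 4, 3, 5, 3, 4, 4, 6, 5, 5, 3, 2, 4, 3, 3, 5, 3, 4, 5, 4, 6, 5, 6, 4, 5, 5, 1, 5, 5, 4, 5, 6, 5, 5, 5, 6, 5, 4, 4, 5, 5, 6, 4, 4, 5, 2, 1, 3, 6, 5, 4, 5, 2, 5, 6, 6, 1, 3, 4, 4, 6, 5, 5, 4, 4, 5, 5, 5, 4, 5,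 6, 4, 4, 6, 3, 4, 4, 4, 4, 4, 5, 4, 6, 5, 5, 2, 2, 6, 3, 4, 4, 6, 6, 5, 4, 4, 5, 4, 5, 4, 6, 5, 5, 6, 6, 3, 5, 5, 6, 5, 5, 4, 6, 4, 5, 4, 4, 5, 6, 4, 5, 6, 3, 3, 5, 5, 5, 5, 3, 6, 6, 4, 3, 6, 4, 6, 4, 5, 3, 4, 3, 5, 4, 6, 6, 4, 3, 5, 5, 3, 4, 3, 5, 5, 4, 4, 4, 5, 5, 5, 6, 4, 5, 2, 6, 5, 4, 4, 5, 4, 5, 3, 4, 2, 6, 3, 3, 4, 3, 4, 4, 3, 4, 2, 5, 4, 4, 4, 4, 5, 4, 3, 5, 6, 4, 5, 5, 5, 5, 5, 5, 4, 6, 5, 5, 4, 2, 4, 4, 6, 5, 5] }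

/-- the lists of coordinates of the fixed vectors. -/
def dFix : List (List ℤ) :=
  [[-1, -1, -1, -1, -1, -1, -1, -1, -1, -1, -1, -1, -1, -1, -1, -1, -1, -1, -1, -1, -1, -1, -1, -5], [4, 0, 0, 0, 0, 0, 0, 0, 0, 0, 0, 0, 0, 0, 0, 0, 0, 0, 0, 0, 0, 0, 0, 4]]

end Cfsg.Agent.Helper9.McLO

end
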