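import Mathlib
import Cfsg.Agent.Helper9.McLO.BrData

set_option autoImplicit false

/-! Kernel checks of the bridge. -/

noncomputable section

namespace Cfsg.Agent.Helper9.McLO

open Cfsg.Agent.Helper9.OutG Cfsg.Agent.Helper9.LeechAct

set_option maxRecDepth 1000000 in
theorem br_hlet : dBr.lws.all (fun w => w.all letOK) = true := by decide +kernel

set_option maxRecDepth 1000000 in
theorem br_hlen : dBr.lws.length = dD.L := by decide +kernel

set_option maxRecDepth 1000000 in
theorem br_hact : (List.range dD.L).all (fun l => (List.range dD.n).all (fun i => wordL (nthLW dBr.lws l) (nthZ dBr.pts i) == nthZ dBr.pts (T dD l i))) = true := by decide +kernel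

set_option maxRecDepth 1000000 in
theorem br_hfix : (List.range dD.L).all (fun l => dFix.all (fun f => wordL (nthLW dBr.lws l) f == f)) = true := by decide +kernel

set_option maxRecDepth 1000000 in
theorem br_htree : (List.range dD.n).all (fun i => (i == dBr.rt) || (decide (dBr.parJ.getD i 0 < dD.n) && decide (dBr.parL.getD i 0 < dD.L) && (T dD (dBr.parL.getD i 0) (dBr.parJ.getD i 0) == i) && decide (dBr.dp.getD (dBr.parJ.getD i 0) 0 < dBr.dp.getD i 0))) = true := by decide +kernel

set_option maxRecDepth 1000000 in
theorem br_hsrt : (List.range (dD.n - 1)).all (fun i => decide (nthZ dBr.pts i < nthZ dBr.pts (i + 1))) = true := by decide +kernel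

theorem brOK : BrOK dD dBr dFix :=
  { hlet := br_hlet, hlen := br_hlen, hact := br_hact, hfix := br_hfix, htree := br_htree, hsrt := br_hsrt }

set_option maxRecDepth 1000000 in
theorem br_len_b : (List.range dD.n).all (fun i => (nthZ dBr.pts i).length == 24) = true := by decide +kernel

theorem br_len : ∀ i < dD.n, (nthZ dBr.pts i).length = 24 := by
  intro i hi
  have h1 := br_len_b
  rw [List.all_eq_true] at h1
  exact beq_iff_eq.1 (h1 i (List.mem_range.2 hi))

end Cfsg.Agent.Helper9.McLO

end
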