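import Mathlib
import Cfsg.Agent.Helper9.McLO.Chk
import Cfsg.Agent.Helper9.McLO.BrChk
import Cfsg.Agent.Helper9.LeechAct.Stab
import Cfsg.Agent.Helper9.Leech.McLSimple
import Cfsg.Agent.Helper9.HeO.Abs

set_option autoImplicit false

/-! The outer automorphism group of the stabilizer of the two vectors has two elements. -/

noncomputable section

namespace Cfsg.Agent.Helper9.McLO

open Cfsg Cfsg.Agent.Helper9.Golay Cfsg.Agent.Helper9.Leech Cfsg.Agent.Helper9.OutG
open Cfsg.Agent.Helper9.LeechAct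

theorem mem_McL_iff (g : Equiv.Perm ↥leechLattice) :
    g ∈ Spor.McL ↔ g ∈ Co0 ∧ g Spor.leechV = Spor.leechV ∧ g Spor.leechU = Spor.leechU := by
  unfold Spor.McL Spor.Co3
  rw [Subgroup.mem_inf, Subgroup.mem_inf, MulAction.mem_stabilizer_iff,
    MulAction.mem_stabilizer_iff]
  exact ⟨fun h => ⟨h.1.1, h.1.2, h.2⟩, fun h => ⟨⟨h.1, h.2.1⟩, h.2.2⟩⟩

theorem coeV : ((Spor.leechV : ↥leechLattice) : GolayPt → ℤ) = toVec (dFix.getD 0 []) := by
  funext p
  revert p
  decide

theorem coeU : ((Spor.leechU : ↥leechLattice) : GolayPt → ℤ) = toVec (dFix.getD 1 []) := by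
  funext p
  revert p
  decide

theorem normU : sqNorm ((Spor.leechU : ↥leechLattice) : GolayPt → ℤ) = 32 := by decide

theorem normW : sqNorm (((0 - Spor.leechU - Spor.leechV : ↥leechLattice) : ↥leechLattice) :
    GolayPt → ℤ) = 32 := by decide

theorem dotUW : dotInt ((Spor.leechU : ↥leechLattice) : GolayPt → ℤ)
    (((0 - Spor.leechU - Spor.leechV : ↥leechLattice) : ↥leechLattice) : GolayPt → ℤ) = -8 := by
  decide

theorem mcl_fin : Finite ↥Spor.McL ∧ Nat.card ↥Spor.McL ≤ 898128000 :=
  finite_card_le (by norm_num)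
    (mcl_simple_card Spor.leechU (0 - Spor.leechU - Spor.leechV) normU normW dotUW).2
    (joint_mem Spor.leechU Spor.leechV (fun g hg =>
      ⟨((mem_McL_iff g).1 hg).1, ((mem_McL_iff g).1 hg).2.2, ((mem_McL_iff g).1 hg).2.1⟩))

/-- the vector of the first point. -/
def rootV : GolayPt → ℤ := fun p => if p = none ∨ p = some 1 then 4 else 0

theorem rootV_mem : rootV ∈ leechSet :=
  Spor.mem_leechSet_of_const_mod_four rootV 0 0 (by decide) (by decide) (by decide)

/-- the first point. -/
def rootL : ↥leechLattice := ⟨rootV, AddSubgroup.subset_closure rootV_mem⟩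

theorem out_McL : Nat.card (Cfsg.Out ↥Spor.McL) = 2 := by
  have := mcl_fin.1
  have hx0 : ((rootL : ↥leechLattice) : GolayPt → ℤ) = toVec (nthZ dBr.pts dBr.rt) := by
    have e : nthZ dBr.pts dBr.rt = [0, 4, 0, 0, 0, 0, 0, 0, 0, 0, 0, 0, 0, 0, 0, 0, 0, 0, 0, 0, 0,
      0, 0, 4] := by decide +kernel
    rw [e]
    funext p
    revert p
    decide
  obtain ⟨⟨e⟩, hN⟩ := bridge core brOK Spor.McL mcl_fin.2
    [(Spor.leechV, dFix.getD 0 []), (Spor.leechU, dFix.getD 1 [])]
    (by
      intro f hf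
      simp only [List.mem_cons, List.not_mem_nil, or_false] at hf
      rcases hf with rfl | rfl
      · exact coeV
      · exact coeU)
    (by decide)
    (by
      intro f hf
      simp only [List.mem_cons, List.not_mem_nil, or_false] at hf
      rcases hf with rfl | rfl <;> decide)
    (by
      intro g hg hfx
      rw [mem_McL_iff]
      exact ⟨hg, hfx (Spor.leechV, dFix.getD 0 []) List.mem_cons_self,
        hfx (Spor.leechU, dFix.getD 1 []) (List.mem_cons_of_mem _ List.mem_cons_self)⟩)
    rootL hx0 br_len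
  rw [Cfsg.Agent.Helper9.HeO.card_out_congr e]
  exact out_two core hN genOK sylOK (by decide) clsOK (by decide) tstOK hp2 hK0 tauOK

end Cfsg.Agent.Helper9.McLO

end
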